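import Cfsg.Agent.H345.RG.Fpr

/-!
# S3509: covers with one big member (helper385)

If all members of a cover but one have small fixed point ratio, then the remaining member `x` fixes nearly everything,
and so does every product of a few conjugates of `x`.
-/

set_option autoImplicit false
open Cfsg

namespace Cfsg.Agent.H385.RG

open MulAction Cfsg.Agent.H106.RC Cfsg.Agent.H345.RG

variable {G Ω : Type*} [Group G] [MulAction G Ω]

theorem fpr_mul [Finite Ω] [Nonempty Ω] (x y : G) : fpr Ω x + fpr Ω y ≤ 1 + fpr Ω (x * y) := by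
  classical
  have hn : (0 : ℚ) < Nat.card Ω := by exact_mod_cast (Nat.card_pos : 0 < Nat.card Ω)
  have h1 : Nat.card (fixedBy Ω x) + Nat.card (fixedBy Ω y) ≤ Nat.card Ω + Nat.card (fixedBy Ω (x * y)) := by
    have e1 := Set.ncard_union_add_ncard_inter (fixedBy Ω x) (fixedBy Ω y)
    have e2 : (fixedBy Ω x ∪ fixedBy Ω y).ncard ≤ Nat.card Ω := by
      rw [← Set.ncard_univ]
      exact Set.ncard_le_ncard (Set.subset_univ _)
    have e3 : (fixedBy Ω x ∩ fixedBy Ω y).ncard ≤ (fixedBy Ω (x * y)).ncard := by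
      refine Set.ncard_le_ncard ?_
      rintro ω ⟨h1, h2⟩
      show (x * y) • ω = ω
      rw [mul_smul, show y • ω = ω from h2, show x • ω = ω from h1]
    rw [Nat.card_coe_set_eq, Nat.card_coe_set_eq, Nat.card_coe_set_eq]
    omega
  have h2 : (Nat.card (fixedBy Ω x) : ℚ) + Nat.card (fixedBy Ω y) ≤ Nat.card Ω + Nat.card (fixedBy Ω (x * y)) := by
    exact_mod_cast h1
  unfold fpr
  rw [← add_div, div_le_iff₀ hn, add_mul, div_mul_cancel₀ _ hn.ne', one_mul]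
  exact h2

theorem fpr_inv [Finite Ω] (x : G) : fpr Ω x⁻¹ = fpr Ω x := by
  have h1 := fpr_zpow (Ω := Ω) (x := x⁻¹) (y := x) (Subgroup.inv_mem _ (Subgroup.mem_zpowers x))
    (by simp)
  exact h1

/-- all members but `x i₀` have small fixed point ratio: then `x i₀` fixes nearly everything -/
theorem big_of_small [Finite Ω] [Nonempty Ω] {ι : Type*} [Fintype ι] [DecidableEq ι] {x : ι → G} (hc : Cov Ω x)
    (i₀ : ι) {β : ι → ℚ} (hβ : ∀ i, i ≠ i₀ → fpr Ω (x i) ≤ β i) :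
    1 - ∑ i ∈ Finset.univ.erase i₀, β i ≤ fpr Ω (x i₀) := by
  have h1 := one_le_sum hc
  rw [← Finset.add_sum_erase _ _ (Finset.mem_univ i₀)] at h1
  have h2 : ∑ i ∈ Finset.univ.erase i₀, fpr Ω (x i) ≤ ∑ i ∈ Finset.univ.erase i₀, β i :=
    Finset.sum_le_sum fun i hi => hβ i (Finset.ne_of_mem_erase hi)
  linarith

/-- a product of `m` conjugates of `x` or `x⁻¹` has fixed point ratio at least `1 - m (1 - fpr x)` -/
theorem fpr_prod_conj [Finite Ω] [Nonempty Ω] (x : G) (L : List G)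
    (hL : ∀ y ∈ L, ∃ c : G, y = c * x * c⁻¹ ∨ y = c * x⁻¹ * c⁻¹) :
    1 - (L.length : ℚ) * (1 - fpr Ω x) ≤ fpr Ω L.prod := by
  induction L with
  | nil =>
    have hn : (0 : ℚ) < Nat.card Ω := by exact_mod_cast (Nat.card_pos : 0 < Nat.card Ω)
    have : fixedBy Ω (1 : G) = Set.univ := by
      ext ω
      simp
    simp only [List.length_nil, Nat.cast_zero, zero_mul, sub_zero, List.prod_nil]
    rw [fpr, this, Nat.card_coe_set_eq, Set.ncard_univ, div_self hn.ne']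
  | cons y L ih =>
    have h1 := ih fun z hz => hL z (List.mem_cons_of_mem _ hz)
    have h2 := fpr_mul (Ω := Ω) y L.prod
    have h3 : fpr Ω y = fpr Ω x := by
      obtain ⟨c, rfl | rfl⟩ := hL y List.mem_cons_self
      · exact fpr_conj c x
      · rw [fpr_conj, fpr_inv]
    rw [List.prod_cons, List.length_cons]
    push_cast
    linarith

/-- **CBK** : all members but `x i₀` have fixed point ratio at most `β i`, a product `y` of `m` conjugates of
`(x i₀)^±1` has fixed point ratio at most `γ`: then `1 ≤ m * ∑ β + γ`. -/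
theorem cbk [Finite Ω] [Nonempty Ω] {ι : Type*} [Fintype ι] [DecidableEq ι] {x : ι → G} (hc : Cov Ω x)
    (i₀ : ι) {β : ι → ℚ} (hβ : ∀ i, i ≠ i₀ → fpr Ω (x i) ≤ β i) (L : List G)
    (hL : ∀ y ∈ L, ∃ c : G, y = c * x i₀ * c⁻¹ ∨ y = c * (x i₀)⁻¹ * c⁻¹) {γ : ℚ} (hγ : fpr Ω L.prod ≤ γ) :
    1 ≤ (L.length : ℚ) * ∑ i ∈ Finset.univ.erase i₀, β i + γ := by
  have h1 := big_of_small hc i₀ hβ
  have h2 := fpr_prod_conj (Ω := Ω) (x i₀) L hL
  have h3 : (L.length : ℚ) * (1 - fpr Ω (x i₀)) ≤ L.length * ∑ i ∈ Finset.univ.erase i₀, β i :=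
    mul_le_mul_of_nonneg_left (by linarith) (Nat.cast_nonneg _)
  linarith

/-- **CBK** for one commutator `[x i₀, t]`. -/
theorem cbk_comm [Finite Ω] [Nonempty Ω] {ι : Type*} [Fintype ι] [DecidableEq ι] {x : ι → G} (hc : Cov Ω x)
    (i₀ : ι) {β : ι → ℚ} (hβ : ∀ i, i ≠ i₀ → fpr Ω (x i) ≤ β i) (t : G) {γ : ℚ}
    (hγ : fpr Ω (x i₀ * t * (x i₀)⁻¹ * t⁻¹) ≤ γ) : 1 ≤ 2 * ∑ i ∈ Finset.univ.erase i₀, β i + γ := by
  have h := cbk hc i₀ hβ [x i₀, t * (x i₀)⁻¹ * t⁻¹] (by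
    intro y hy
    simp only [List.mem_cons, List.not_mem_nil, or_false] at hy
    rcases hy with rfl | rfl
    · exact ⟨1, Or.inl (by group)⟩
    · exact ⟨t, Or.inr rfl⟩) (γ := γ) (by
    have : [x i₀, t * (x i₀)⁻¹ * t⁻¹].prod = x i₀ * t * (x i₀)⁻¹ * t⁻¹ := by
      simp [mul_assoc]
    rwa [this])
  simpa using h

/-- **CBK**, contradiction form. -/
theorem dead_cbk [Finite Ω] [Nonempty Ω] {ι : Type*} [Fintype ι] [DecidableEq ι] {x : ι → G} (hc : Cov Ω x)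
    (i₀ : ι) {β : ι → ℚ} (hβ : ∀ i, i ≠ i₀ → fpr Ω (x i) ≤ β i) (t : G) {γ : ℚ}
    (hγ : fpr Ω (x i₀ * t * (x i₀)⁻¹ * t⁻¹) ≤ γ) (h : 2 * ∑ i ∈ Finset.univ.erase i₀, β i + γ < 1) : False :=
  absurd (cbk_comm hc i₀ hβ t hγ) (not_le.2 h)

/-- the second moment bound: `(fpr x)^2 ≤` average of `fpr [x, k]` over a finite subgroup `K`. -/
theorem sq_le_avg [Finite Ω] [Nonempty Ω] (K : Subgroup G) [Fintype K] (x : G) :
    (Fintype.card K : ℚ) * (fpr Ω x) ^ 2 ≤ ∑ k : K, fpr Ω (x * k * x⁻¹ * (k : G)⁻¹) := by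
  classical
  have : Fintype Ω := Fintype.ofFinite Ω
  have hn : (0 : ℚ) < Nat.card Ω := by exact_mod_cast (Nat.card_pos : 0 < Nat.card Ω)
  let F : Finset Ω := Finset.univ.filter fun ω => x • ω = ω
  have hF : Nat.card (fixedBy Ω x) = F.card := by
    rw [Nat.card_eq_fintype_card, Fintype.card_subtype]
    rfl
  let a : Ω → ℕ := fun ω => (Finset.univ.filter fun k : K => (k : G)⁻¹ • ω ∈ F).card
  have h1 : ∑ ω, a ω = Fintype.card K * F.card := by
    have e1 : ∀ ω, a ω = ∑ k : K, if (k : G)⁻¹ • ω ∈ F then 1 else 0 := fun ω => Finset.card_filter _ _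
    rw [Finset.sum_congr rfl fun ω _ => e1 ω, Finset.sum_comm]
    have e2 : ∀ k : K, (∑ ω : Ω, if (k : G)⁻¹ • ω ∈ F then 1 else 0) = F.card := by
      intro k
      rw [← Finset.card_filter]
      refine Finset.card_bij (fun ω _ => (k : G)⁻¹ • ω) (fun ω hω => (Finset.mem_filter.1 hω).2)
        (fun ω _ ω' _ h => smul_left_cancel _ h) (fun ω hω => ⟨(k : G) • ω, ?_, by simp⟩)
      rw [Finset.mem_filter]
      refine ⟨Finset.mem_univ _, ?_⟩
      simpa using hω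
    rw [Finset.sum_congr rfl fun k _ => e2 k, Finset.sum_const, Finset.card_univ, smul_eq_mul]
  have h2 : ∑ ω, a ω ^ 2 ≤ Fintype.card K * ∑ k : K, Nat.card (fixedBy Ω (x * k * x⁻¹ * (k : G)⁻¹)) := by
    have e1 : ∀ ω, a ω ^ 2 = ∑ k : K, ∑ l : K, if (k : G)⁻¹ • ω ∈ F ∧ (l : G)⁻¹ • ω ∈ F then 1 else 0 := by
      intro ω
      have : a ω = ∑ k : K, if (k : G)⁻¹ • ω ∈ F then 1 else 0 := Finset.card_filter _ _
      rw [sq, this, Finset.sum_mul_sum]
      refine Finset.sum_congr rfl fun k _ => Finset.sum_congr rfl fun l _ => ?_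
      by_cases hk : (k : G)⁻¹ • ω ∈ F <;> by_cases hl : (l : G)⁻¹ • ω ∈ F <;> simp [hk, hl]
    rw [Finset.sum_congr rfl fun ω _ => e1 ω, Finset.sum_comm]
    have e2 : ∀ k : K, (∑ ω : Ω, ∑ l : K, if (k : G)⁻¹ • ω ∈ F ∧ (l : G)⁻¹ • ω ∈ F then 1 else 0) ≤
        ∑ k : K, Nat.card (fixedBy Ω (x * k * x⁻¹ * (k : G)⁻¹)) := by
      intro k
      rw [Finset.sum_comm, ← Equiv.sum_comp (Equiv.mulLeft k⁻¹)
        (fun m : K => Nat.card (fixedBy Ω (x * m * x⁻¹ * (m : G)⁻¹)))]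
      refine Finset.sum_le_sum fun l _ => ?_
      rw [← Finset.card_filter, Nat.card_eq_fintype_card, Fintype.card_subtype]
      refine Finset.card_le_card_of_injOn (fun ω => (k : G)⁻¹ • ω) (fun ω hω => ?_)
        (fun ω _ ω' _ h => smul_left_cancel _ h)
      have hω' := (Finset.mem_filter.1 hω).2
      have f1 : x • ((k : G)⁻¹ • ω) = (k : G)⁻¹ • ω := (Finset.mem_filter.1 hω'.1).2
      have f2 : x • ((l : G)⁻¹ • ω) = (l : G)⁻¹ • ω := (Finset.mem_filter.1 hω'.2).2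
      have f3 : x⁻¹ • ((l : G)⁻¹ • ω) = (l : G)⁻¹ • ω := by rw [inv_smul_eq_iff, f2]
      rw [Finset.mem_coe, Finset.mem_filter]
      refine ⟨Finset.mem_univ _, ?_⟩
      show (x * ((k⁻¹ * l : K) : G) * x⁻¹ * ((k⁻¹ * l : K) : G)⁻¹) • ((k : G)⁻¹ • ω) = (k : G)⁻¹ • ω
      have f4 : ((k⁻¹ * l : K) : G)⁻¹ • ((k : G)⁻¹ • ω) = (l : G)⁻¹ • ω := by
        rw [← mul_smul]
        congr 1
        push_cast
        group
      rw [mul_smul, f4, mul_smul, f3, mul_smul, ← mul_smul ((k⁻¹ * l : K) : G)]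
      have f5 : ((k⁻¹ * l : K) : G) * (l : G)⁻¹ = (k : G)⁻¹ := by
        push_cast
        group
      rw [f5, f1]
    refine (Finset.sum_le_sum fun k _ => e2 k).trans ?_
    rw [Finset.sum_const, Finset.card_univ, smul_eq_mul]
  have h3 : (∑ ω, a ω) ^ 2 ≤ Nat.card Ω * ∑ ω, a ω ^ 2 := by
    have := sq_sum_le_card_mul_sum_sq (s := (Finset.univ : Finset Ω)) (f := fun ω => (a ω : ℤ))
    rw [Finset.card_univ, ← Nat.card_eq_fintype_card] at this
    exact_mod_cast this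
  have h4 : (Fintype.card K : ℚ) ^ 2 * F.card ^ 2 ≤
      Nat.card Ω * (Fintype.card K * ∑ k : K, (Nat.card (fixedBy Ω (x * k * x⁻¹ * (k : G)⁻¹)) : ℚ)) := by
    have e1 : (Fintype.card K * F.card) ^ 2 ≤
        Nat.card Ω * (Fintype.card K * ∑ k : K, Nat.card (fixedBy Ω (x * k * x⁻¹ * (k : G)⁻¹))) := by
      rw [← h1]
      exact h3.trans (Nat.mul_le_mul_left _ h2)
    rw [mul_pow] at e1
    exact_mod_cast e1
  have hK : (0 : ℚ) < Fintype.card K := by exact_mod_cast Fintype.card_pos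
  unfold fpr
  rw [hF, ← Finset.sum_div, div_pow, le_div_iff₀ hn]
  have e5 : (Fintype.card K : ℚ) * ((F.card : ℚ) ^ 2 / (Nat.card Ω : ℚ) ^ 2) * Nat.card Ω =
      (Fintype.card K : ℚ) * F.card ^ 2 / Nat.card Ω := by
    field_simp
  rw [e5, div_le_iff₀ hn]
  have e6 : (Fintype.card K : ℚ) * (Fintype.card K * F.card ^ 2) ≤ (Fintype.card K : ℚ) *
      ((∑ k : K, (Nat.card (fixedBy Ω (x * k * x⁻¹ * (k : G)⁻¹)) : ℚ)) * Nat.card Ω) := by
    linarith
  exact le_of_mul_le_mul_left e6 hK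

end Cfsg.Agent.H385.RG
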